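import Mathlib
import Cfsg.Prelude.Def_JComponents
import Cfsg.Agent.Lib.Helper48.LLemma

set_option autoImplicit false

/-!
KS12, step 5.4 (pure part): if all `Lp`-conjugates of an exponent-2 subgroup `U` commute with `U`
elementwise, then the join of the `Lp`-conjugates of `U` is an elementary abelian 2-group
normalized by `Lp`.
-/

namespace Cfsg.Agent.Lib.Helper48.KS12

open Subgroup

variable {G : Type*} [Group G]

/-- A subgroup generated by pairwise commuting elements is commutative. -/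
theorem closure_comm_of_comm {S : Set G} (hS : ∀ a ∈ S, ∀ b ∈ S, a * b = b * a) :
    ∀ a ∈ closure S, ∀ b ∈ closure S, a * b = b * a := by
  have h1 : closure S ≤ centralizer S := by
    rw [closure_le]
    intro a ha
    rw [SetLike.mem_coe, mem_centralizer_iff]
    intro b hb
    exact hS b hb a ha
  have h2 : closure S ≤ centralizer (closure S : Set G) := by
    rw [closure_le]
    intro a ha
    rw [SetLike.mem_coe, mem_centralizer_iff]
    intro b hb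
    have := h1 hb
    rw [mem_centralizer_iff] at this
    exact (this a ha).symm
  intro a ha b hb
  have := h2 hb
  rw [mem_centralizer_iff] at this
  exact this a ha

/-- A subgroup generated by pairwise commuting involutions has exponent 2. -/
theorem closure_sq_of_comm {S : Set G} (hS : ∀ a ∈ S, ∀ b ∈ S, a * b = b * a)
    (h2 : ∀ a ∈ S, a * a = 1) : ∀ a ∈ closure S, a * a = 1 := by
  have hc := closure_comm_of_comm hS
  intro a ha
  induction ha using closure_induction with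
  | mem x hx => exact h2 x hx
  | one => simp
  | mul x y hx hy ihx ihy =>
    have h := hc x hx y hy
    calc x * y * (x * y) = x * (y * x) * y := by group
      _ = x * (x * y) * y := by rw [h]
      _ = (x * x) * (y * y) := by group
      _ = 1 := by rw [ihx, ihy, mul_one]
  | inv x hx ihx =>
    calc x⁻¹ * x⁻¹ = (x * x)⁻¹ := by group
      _ = 1 := by rw [ihx, inv_one]

/-- The set of `Lp`-conjugates of elements of `U`. -/
def conjSet (U Lp : Subgroup G) : Set G := {g | ∃ n ∈ Lp, ∃ b ∈ U, g = n * b * n⁻¹}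

/-- The join of the `Lp`-conjugates of `U`. -/
def sigmaOf (U Lp : Subgroup G) : Subgroup G := closure (conjSet U Lp)

theorem le_sigmaOf (U Lp : Subgroup G) : U ≤ sigmaOf U Lp := by
  intro u hu
  exact subset_closure ⟨1, one_mem _, u, hu, by simp⟩

theorem conj_mem_sigmaOf (U Lp : Subgroup G) {n u : G} (hn : n ∈ Lp) (hu : u ∈ U) :
    n * u * n⁻¹ ∈ sigmaOf U Lp :=
  subset_closure ⟨n, hn, u, hu, rfl⟩

theorem sigmaOf_le {U Lp X : Subgroup G} (h : ∀ n ∈ Lp, ∀ u ∈ U, n * u * n⁻¹ ∈ X) :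
    sigmaOf U Lp ≤ X := by
  unfold sigmaOf
  rw [closure_le]
  rintro g ⟨n, hn, b, hb, rfl⟩
  exact h n hn b hb

theorem le_normalizer_sigmaOf (U Lp : Subgroup G) :
    Lp ≤ normalizer (sigmaOf U Lp : Set G) := by
  have key : ∀ l ∈ Lp, ∀ s ∈ sigmaOf U Lp, l * s * l⁻¹ ∈ sigmaOf U Lp := by
    intro l hl s hs
    unfold sigmaOf at hs ⊢
    induction hs using closure_induction with
    | mem x hx =>
      obtain ⟨n, hn, b, hb, rfl⟩ := hx
      refine subset_closure ⟨l * n, mul_mem hl hn, b, hb, by group⟩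
    | one => simp
    | mul x y hx hy ihx ihy =>
      have : l * (x * y) * l⁻¹ = (l * x * l⁻¹) * (l * y * l⁻¹) := by group
      rw [this]
      exact mul_mem ihx ihy
    | inv x hx ihx =>
      have : l * x⁻¹ * l⁻¹ = (l * x * l⁻¹)⁻¹ := by group
      rw [this]
      exact inv_mem ihx
  intro l hl
  rw [mem_normalizer_iff]
  intro s
  constructor
  · exact key l hl s
  · intro h
    have := key l⁻¹ (inv_mem hl) _ h
    have e : l⁻¹ * (l * s * l⁻¹) * l⁻¹⁻¹ = s := by group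
    rwa [e] at this

theorem sigmaOf_comm (U Lp : Subgroup G)
    (hc : ∀ n ∈ Lp, ∀ a ∈ U, ∀ b ∈ U, a * (n * b * n⁻¹) = (n * b * n⁻¹) * a) :
    ∀ a ∈ sigmaOf U Lp, ∀ b ∈ sigmaOf U Lp, a * b = b * a := by
  apply closure_comm_of_comm
  rintro _ ⟨n, hn, a, ha, rfl⟩ _ ⟨m, hm, b, hb, rfl⟩
  have h := hc (n⁻¹ * m) (mul_mem (inv_mem hn) hm) a ha b hb
  calc n * a * n⁻¹ * (m * b * m⁻¹)
      = n * (a * (n⁻¹ * m * b * (n⁻¹ * m)⁻¹)) * n⁻¹ := by group
    _ = n * ((n⁻¹ * m * b * (n⁻¹ * m)⁻¹) * a) * n⁻¹ := by rw [h]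
    _ = m * b * m⁻¹ * (n * a * n⁻¹) := by group

theorem sigmaOf_sq (U Lp : Subgroup G) (hU2 : ∀ u ∈ U, u * u = 1)
    (hc : ∀ n ∈ Lp, ∀ a ∈ U, ∀ b ∈ U, a * (n * b * n⁻¹) = (n * b * n⁻¹) * a) :
    ∀ a ∈ sigmaOf U Lp, a * a = 1 := by
  apply closure_sq_of_comm
  · rintro _ ⟨n, hn, a, ha, rfl⟩ _ ⟨m, hm, b, hb, rfl⟩
    have h := hc (n⁻¹ * m) (mul_mem (inv_mem hn) hm) a ha b hb
    calc n * a * n⁻¹ * (m * b * m⁻¹)
        = n * (a * (n⁻¹ * m * b * (n⁻¹ * m)⁻¹)) * n⁻¹ := by group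
      _ = n * ((n⁻¹ * m * b * (n⁻¹ * m)⁻¹) * a) * n⁻¹ := by rw [h]
      _ = m * b * m⁻¹ * (n * a * n⁻¹) := by group
  · rintro _ ⟨n, hn, a, ha, rfl⟩
    calc n * a * n⁻¹ * (n * a * n⁻¹) = n * (a * a) * n⁻¹ := by group
      _ = 1 := by rw [hU2 a ha]; group

/-- Step 5.4, pure form. -/
theorem sigma_elemAb (U Lp : Subgroup G) (hU2 : ∀ u ∈ U, u * u = 1)
    (hc : ∀ n ∈ Lp, ∀ a ∈ U, ∀ b ∈ U, a * (n * b * n⁻¹) = (n * b * n⁻¹) * a) :
    ∃ Sg : Subgroup G, U ≤ Sg ∧ (∀ s ∈ Sg, s * s = 1) ∧ (∀ a ∈ Sg, ∀ b ∈ Sg, a * b = b * a) ∧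
      Lp ≤ normalizer (Sg : Set G) :=
  ⟨sigmaOf U Lp, le_sigmaOf U Lp, sigmaOf_sq U Lp hU2 hc, sigmaOf_comm U Lp hc,
    le_normalizer_sigmaOf U Lp⟩

theorem isPGroup_two_of_sq {X : Subgroup G} (h : ∀ s ∈ X, s * s = 1) : IsPGroup 2 X := by
  intro x
  refine ⟨1, ?_⟩
  apply Subtype.ext
  have := h x.1 x.2
  simp only [pow_one, Subgroup.coe_pow, Subgroup.coe_one]
  rw [pow_two]
  exact this

/-- Step 5.4, with a maximal 2-local `Lp`: a nontrivial exponent-2 subgroup `U` all of whose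
`Lp`-conjugates commute with it lies in `O₂(Lp)`. -/
theorem le_pCoreOf_of_conj_comm (U Lp : Subgroup G) (hLp : Cfsg.IsMaximalTwoLocal Lp)
    (hU1 : U ≠ ⊥) (hU2 : ∀ u ∈ U, u * u = 1)
    (hc : ∀ n ∈ Lp, ∀ a ∈ U, ∀ b ∈ U, a * (n * b * n⁻¹) = (n * b * n⁻¹) * a) :
    U ≤ Cfsg.pCoreOf 2 Lp := by
  have hSg2 : IsPGroup 2 (sigmaOf U Lp) := isPGroup_two_of_sq (sigmaOf_sq U Lp hU2 hc)
  have hSg1 : sigmaOf U Lp ≠ ⊥ := by
    intro h
    apply hU1
    rw [eq_bot_iff, ← h]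
    exact le_sigmaOf U Lp
  have hN : Cfsg.IsTwoLocal (normalizer (sigmaOf U Lp : Set G)) := ⟨_, hSg2, hSg1, rfl⟩
  have hEq : normalizer (sigmaOf U Lp : Set G) = Lp := hLp.2 _ hN (le_normalizer_sigmaOf U Lp)
  have hle : sigmaOf U Lp ≤ Lp :=
    le_of_le_of_eq (le_normalizer (H := sigmaOf U Lp)) hEq
  exact (le_sigmaOf U Lp).trans
    (Cfsg.Agent.Lib.Helper48.LLemma.le_pCoreOf hle hSg2 (le_normalizer_sigmaOf U Lp))

end Cfsg.Agent.Lib.Helper48.KS12
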